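import Cfsg.Agent.Lib.FusionSystem.Normal
import Cfsg.Agent.Lib.FusionSystem.FactorSaturated
import Cfsg.Agent.Lib.FusionP3.GT.Basic

/-!
A 2-group all of whose elements are conjugate into the centre in a saturated system is abelian.
-/

set_option autoImplicit false
set_option linter.style.haveILetI false
set_option linter.unusedSectionVars false

namespace Cfsg.Agent.Lib.FusionP3.CentralConj

open Cfsg Cfsg.FusionSystem Cfsg.Agent.Lib.FS

universe u

variable {Ω : Type u} [Group Ω] {S : Subgroup Ω} [Finite S] {F : FusionSystem S}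

local instance : Fact (Nat.Prime 2) := ⟨Nat.prime_two⟩

/-- A map on a subgroup with central image extends to `S` when the source is central too. -/
theorem exists_extend_central {p : ℕ} [Fact p.Prime] (hS : IsPGroup p S) (hF : F.IsSaturated p) {A : Subgroup Ω}
    {φ : A →* Ω} (hφ : φ ∈ F.Hom A) (hA : ∀ a : A, ∀ g ∈ S, g * a = (a : Ω) * g)
    (hφA : ∀ a : A, ∀ g ∈ S, g * φ a = φ a * g) :
    ∃ ψ ∈ F.Hom S, ψ.range = S ∧ ∀ (a : A) (h : (a : Ω) ∈ S), ψ ⟨a, h⟩ = φ a := by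
  have hAS := src_le hφ
  have hc : F.IsFullyCentralized φ.range := by
    refine ⟨range_le_base hφ, fun Q _ => ?_⟩
    have : centralizerIn S φ.range = S := inf_eq_left.2 fun g hg => by
      rintro _ ⟨a, rfl⟩
      exact (hφA a g hg).symm
    rw [this]
    exact Subgroup.card_le_of_le (centralizerIn_le Q)
  obtain ⟨ψ, hψ, hψe⟩ := (receptive_of_fullyCentralized hS hF hc).2 A φ hφ rfl
  have hS' : S ≤ extender S A φ := fun g hg => centralizerIn_le_extender A φ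
    ⟨hg, fun a ha => (hA ⟨a, ha⟩ g hg).symm⟩
  obtain ⟨χ, hχ, hχe⟩ := exists_restrict hψ hS'
  exact ⟨χ, hχ, range_eq_of_mem hχ (apply_mem hχ) le_rfl, fun a h => (hχe _).trans (hψe a a.2 _)⟩

/-- No element of order at least four is conjugate to its inverse by an element of `S`. -/
theorem sq_eq_one_of_real (hS : IsPGroup 2 S) (hF : F.IsSaturated 2) {x g : Ω} (hx : x ∈ S) (hg : g ∈ S)
    (hinv : g * x * g⁻¹ = x⁻¹) (h : ∃ z ∈ S ⊓ Subgroup.centralizer (S : Set Ω), F.IsConjElt x z) :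
    x * x = 1 := by
  obtain ⟨z, ⟨hzS, hzc⟩, φ, hφ, hφx⟩ := h
  -- a map inverting `z`
  obtain ⟨η, hη, hηr, hηl, -⟩ := exists_inv hφ rfl
  have hXS : Subgroup.zpowers x ≤ S := Subgroup.zpowers_le.2 hx
  obtain ⟨κ, hκ, hκe⟩ := exists_comp hη (F.conj_mem hXS hg) fun y => hηr.le ⟨y, rfl⟩
  have hκm : ∀ y, κ y ∈ Subgroup.zpowers x := by
    rintro ⟨_, ⟨w, hw⟩, rfl⟩
    obtain ⟨k, rfl⟩ := Subgroup.mem_zpowers_iff.1 hw
    rw [hκe, conjHom_apply]
    refine (congrArg (fun w => g * w * g⁻¹ ∈ Subgroup.zpowers x) (hηl ⟨x ^ k, hw⟩ ⟨_, rfl⟩)).mpr ?_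
    rw [← conj_zpow, hinv]
    exact zpow_mem (inv_mem (Subgroup.mem_zpowers x)) k
  obtain ⟨τ, hτ, hτe⟩ := exists_comp hκ hφ hκm
  have hcen : ∀ a : φ.range, ∀ s ∈ S, s * a = (a : Ω) * s := by
    rintro ⟨_, ⟨w, hw⟩, rfl⟩ s hs
    obtain ⟨k, rfl⟩ := Subgroup.mem_zpowers_iff.1 hw
    show s * φ _ = φ _ * s
    rw [show (⟨x ^ k, hw⟩ : Subgroup.zpowers x) = ⟨x, Subgroup.mem_zpowers x⟩ ^ k from Subtype.ext rfl, map_zpow, hφx]
    exact (Commute.zpow_right (hzc s hs : Commute s z) k)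
  obtain ⟨ψ, hψ, hψr, hψe⟩ := exists_extend_central hS hF hτ hcen fun a s hs => by
    rw [hτe]; exact hcen ⟨_, _, rfl⟩ s hs
  set α : MulAut S := homEquiv hψ hψr with hα
  have hzmem : z ∈ φ.range := ⟨_, hφx⟩
  have hαz : α ⟨z, hzS⟩ = (⟨z, hzS⟩ : S)⁻¹ := by
    apply Subtype.ext
    show ψ ⟨z, hzS⟩ = z⁻¹
    rw [hψe ⟨z, hzmem⟩ hzS, hτe]
    have h1 : η ⟨z, hzmem⟩ = x :=
      (congrArg η (Subtype.ext hφx.symm)).trans (hηl ⟨x, Subgroup.mem_zpowers x⟩ ⟨_, rfl⟩)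
    have h2 : κ ⟨z, hzmem⟩ = x⁻¹ := by
      rw [hκe, conjHom_apply]
      show g * η ⟨z, hzmem⟩ * g⁻¹ = _
      rw [h1, hinv]
    have h3 : (⟨κ ⟨z, hzmem⟩, hκm _⟩ : Subgroup.zpowers x) = (⟨x, Subgroup.mem_zpowers x⟩)⁻¹ := Subtype.ext h2
    rw [h3, map_inv, hφx]
  -- some odd power of `α` is inner
  haveI := finite_sub (le_refl S)
  have hfa := fullyAutomized_of_fullyNormalized hS hF (isFullyNormalized_base F)
  obtain ⟨R, hR⟩ := hfa.2
  haveI : ((Inn S).subgroupOf (F.autGroup S)).Normal := by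
    refine ⟨fun n hn g => ?_⟩
    obtain ⟨q, hq⟩ := Subgroup.mem_subgroupOf.mp hn
    refine Subgroup.mem_subgroupOf.mpr ⟨g.1 q, ?_⟩
    rw [Subgroup.coe_mul, Subgroup.coe_mul, Subgroup.coe_inv, ← hq]
    exact MulEquiv.ext fun x => by simp [MulAut.mul_apply, MulAut.conj_apply]
  have hTT : autInducedBy S S = Inn S := le_antisymm (fun β hβ => by
    obtain ⟨s, hs, hse⟩ := mem_autInducedBy.1 hβ
    exact ⟨⟨s, hs⟩, MulEquiv.ext fun y => Subtype.ext (hse y).symm⟩) (inn_le_autInducedBy le_rfl)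
  haveI := GT.finite_mulAut ↥S
  set j := ((Inn S).subgroupOf (F.autGroup S)).index with hj
  have hodd : ¬ 2 ∣ j := by rw [hj, ← hTT, ← hR]; exact R.not_dvd_index
  obtain ⟨s, hs⟩ := Subgroup.pow_index_mem ((Inn S).subgroupOf (F.autGroup S))
    ⟨α, homEquiv_mem_autGroup hψ hψr⟩
  have hpow : ∀ k : ℕ, (α ^ k) ⟨z, hzS⟩ = (⟨z, hzS⟩ : S) ^ ((-1 : ℤ) ^ k) := fun k => by
    induction k with
    | zero => simp
    | succ k ih => rw [pow_succ', MulAut.mul_apply, ih, map_zpow, hαz, inv_zpow', pow_succ', neg_one_mul]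
  have h1 : MulAut.conj s (⟨z, hzS⟩ : S) = ⟨z, hzS⟩ := Subtype.ext (by
    show (s : Ω) * z * (s : Ω)⁻¹ = z
    rw [hzc s s.2, mul_inv_cancel_right])
  have h2 : (α ^ j) ⟨z, hzS⟩ = ⟨z, hzS⟩ := by
    have h3 : MulAut.conj s = α ^ j := hs
    rw [← h3, h1]
  rw [hpow, (Nat.odd_iff.2 (Nat.two_dvd_ne_zero.1 hodd)).neg_one_pow, zpow_neg_one] at h2
  have hz2 : z⁻¹ = z := congrArg Subtype.val h2
  have hzz : z * z = 1 := by nth_rw 1 [← hz2]; rw [inv_mul_cancel]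
  have h4 : φ (⟨x, Subgroup.mem_zpowers x⟩ * ⟨x, Subgroup.mem_zpowers x⟩) = φ 1 := by
    rw [map_mul, hφx, hzz, map_one]
  exact congrArg Subtype.val (F.injective_of_mem hφ h4)

/-- The elements of order at most two. -/
theorem exists_omega (hS : IsPGroup 2 S) (hF : F.IsSaturated 2)
    (h : ∀ x ∈ S, ∃ z ∈ S ⊓ Subgroup.centralizer (S : Set Ω), F.IsConjElt x z) :
    ∃ E : Subgroup Ω, (∀ x, x ∈ E ↔ x ∈ S ∧ x * x = 1) ∧ F.IsNormal E := by
  have hcomm : ∀ a ∈ S, ∀ b ∈ S, a * a = 1 → b * b = 1 → a * b = b * a := by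
    intro a ha b hb ha2 hb2
    have hai : a⁻¹ = a := inv_eq_of_mul_eq_one_right ha2
    have hbi : b⁻¹ = b := inv_eq_of_mul_eq_one_right hb2
    have h1 := sq_eq_one_of_real hS hF (mul_mem ha hb) ha
      (by rw [mul_inv_rev, hai, hbi, ← mul_assoc, ha2, one_mul]) (h _ (mul_mem ha hb))
    have h2 := inv_eq_of_mul_eq_one_right h1
    rw [mul_inv_rev, hai, hbi] at h2
    exact h2.symm
  let E : Subgroup Ω :=
    { carrier := {x | x ∈ S ∧ x * x = 1}
      one_mem' := ⟨one_mem _, one_mul 1⟩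
      mul_mem' := fun {a b} ha hb => ⟨mul_mem ha.1 hb.1, by
        calc a * b * (a * b) = a * (b * a) * b := by group
          _ = a * a * (b * b) := by rw [← hcomm a ha.1 b hb.1 ha.2 hb.2]; group
          _ = 1 := by rw [ha.2, hb.2, mul_one]⟩
      inv_mem' := fun {a} ha => ⟨inv_mem ha.1, by rw [← mul_inv_rev, ha.2, inv_one]⟩ }
  have hsc : F.StronglyClosed E := ⟨fun x hx => hx.1, fun R hR φ hφ x => ⟨apply_mem hφ x, by
    rw [← map_mul, show x * x = 1 from Subtype.ext (hR x.2).2, map_one]⟩⟩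
  refine ⟨E, fun x => Iff.rfl, isNormal_of_series hS hF (n := 1) ![⊥, E] rfl rfl (fun i => ?_) fun i => ?_⟩
  · obtain rfl : i = 0 := Subsingleton.elim _ _
    exact hsc
  · obtain rfl : i = 0 := Subsingleton.elim _ _
    show ⁅E, E⁆ ≤ ⊥
    rw [Subgroup.commutator_le]
    intro a ha b hb
    rw [Subgroup.mem_bot, commutatorElement_def, hcomm a ha.1 b hb.1 ha.2 hb.2]
    group

theorem central_omega
    (h : ∀ x ∈ S, ∃ z ∈ S ⊓ Subgroup.centralizer (S : Set Ω), F.IsConjElt x z) {E : Subgroup Ω}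
    (hE : F.IsNormal E) {x e : Ω} (hx : x ∈ S) (he : e ∈ E) : x * e = e * x := by
  obtain ⟨z, ⟨hzS, hzc⟩, φ, hφ, hφx⟩ := h x hx
  obtain ⟨ψ, hψ, hψe, hψE⟩ := hE.2 _ φ hφ
  have h1 : ψ (Subgroup.inclusion le_sup_left ⟨x, Subgroup.mem_zpowers x⟩) = z := by rw [hψe, hφx]
  have h2 : ψ (Subgroup.inclusion le_sup_right ⟨e, he⟩) ∈ E :=
    hψE.le ⟨_, (show (e : Ω) ∈ E from he), rfl⟩
  have h3 := hzc _ (hE.1 h2)
  rw [← h1, ← map_mul, ← map_mul] at h3
  exact (congrArg Subtype.val (F.injective_of_mem hψ h3)).symm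

theorem main : ∀ (n : ℕ) {Ω : Type u} [Group Ω] {S : Subgroup Ω} [Finite S], Nat.card S = n → IsPGroup 2 S →
    ∀ F : FusionSystem S, F.IsSaturated 2 →
      (∀ x ∈ S, ∃ z ∈ S ⊓ Subgroup.centralizer (S : Set Ω), F.IsConjElt x z) →
        ∀ a ∈ S, ∀ b ∈ S, a * b = b * a := by
  intro n
  induction n using Nat.strong_induction_on with
  | _ n ih =>
    intro Ω _ S _ hn hS F hF h
    obtain ⟨E, hEmem, hEn⟩ := exists_omega hS hF h
    have hcen : ∀ x ∈ S, ∀ e ∈ E, x * e = e * x := fun x hx e he => central_omega h hEn hx he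
    by_cases htriv : Nat.card S = 1
    · intro a ha b hb
      haveI := (Nat.card_eq_one_iff_unique.1 htriv).1
      have hab' : a = b := congrArg Subtype.val (Subsingleton.elim (⟨a, ha⟩ : S) ⟨b, hb⟩)
      rw [hab']
    haveI : Nontrivial S := Finite.one_lt_card_iff_nontrivial.1 (lt_of_le_of_ne Nat.card_pos (Ne.symm htriv))
    set N := E.subgroupOf S with hN
    haveI hNn : N.Normal := ⟨fun e he g => by
      have h1 : g * e * g⁻¹ = e := Subtype.ext (by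
        show (g : Ω) * e * (g : Ω)⁻¹ = e
        rw [hcen g g.2 e he, mul_inv_cancel_right])
      rw [h1]; exact he⟩
    set θ := QuotientGroup.mk' N with hθ
    have hker : ∀ s : S, θ s = 1 ↔ (s : Ω) ∈ E := fun s =>
      (QuotientGroup.eq_one_iff s).trans Subgroup.mem_subgroupOf
    have hr : θ.range = ⊤ := MonoidHom.range_eq_top.2 (QuotientGroup.mk'_surjective N)
    have hsc : F.StronglyClosed E := isNormal_stronglyClosed hEn
    obtain ⟨F', hF'⟩ := exists_factorSystem (F := F) hsc θ hker hr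
    have hF's := factor_isSaturated hS hF hsc hF'
    have hp' : IsPGroup 2 (⊤ : Subgroup (S ⧸ N)) := isPGroup_image hS hr
    haveI : Finite (⊤ : Subgroup (S ⧸ N)) := finite_image hr
    have hcard : Nat.card (⊤ : Subgroup (S ⧸ N)) < n := by
      rw [Nat.card_congr Subgroup.topEquiv.toEquiv, ← hn, Subgroup.card_eq_card_quotient_mul_card_subgroup N]
      refine lt_mul_of_one_lt_right Nat.card_pos ?_
      obtain ⟨k, hk0, hk⟩ := (IsPGroup.nontrivial_iff_card hS).1 inferInstance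
      obtain ⟨w, hw⟩ := exists_prime_orderOf_dvd_card' (G := S) 2 (hk ▸ dvd_pow_self 2 hk0.ne')
      have hwN : w ∈ N := Subgroup.mem_subgroupOf.2 ((hEmem _).2 ⟨w.2, by
        have := pow_orderOf_eq_one w
        rw [hw, pow_two] at this
        exact congrArg Subtype.val this⟩)
      haveI : Nontrivial N := ⟨⟨⟨w, hwN⟩, 1, fun he => by
        rw [show w = 1 from congrArg Subtype.val he, orderOf_one] at hw
        omega⟩⟩
      exact Finite.one_lt_card_iff_nontrivial.2 inferInstance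
    -- the image of a conjugation into the centre
    have hind : ∀ x : S, ∃ (z : S) (φ' : Subgroup.zpowers (θ x) →* S ⧸ N), φ' ∈ F'.Hom (Subgroup.zpowers (θ x)) ∧
        (∀ s : S, s * z = z * s) ∧ φ' ⟨θ x, Subgroup.mem_zpowers _⟩ = θ z := by
      intro x
      obtain ⟨z, ⟨hzS, hzc⟩, φ, hφ, hφx⟩ := h x x.2
      obtain ⟨ψ, hψ, hψe, -⟩ := hEn.2 _ φ hφ
      have hpre : preimageAlong θ (Subgroup.zpowers (θ x)) ≤ Subgroup.zpowers (x : Ω) ⊔ E := by
        intro y hy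
        obtain ⟨hyS, hyP⟩ := mem_preimageAlong.1 hy
        obtain ⟨k, hk⟩ := Subgroup.mem_zpowers_iff.1 hyP
        have h1 : ((x ^ k)⁻¹ * ⟨y, hyS⟩ : S).1 ∈ E :=
          (hker _).1 (by rw [map_mul, map_inv, map_zpow, hk, inv_mul_cancel])
        have h2 := mul_mem (Subgroup.mem_sup_left (T := E) (zpow_mem (Subgroup.mem_zpowers (x : Ω)) k))
          (Subgroup.mem_sup_right (S := Subgroup.zpowers (x : Ω)) h1)
        simpa using h2
      obtain ⟨χ, hχ, hχe⟩ := exists_restrict hψ hpre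
      have hK : F.StronglyClosed (θ.ker.map S.subtype) := by rw [ker_map_eq hsc.1 hker]; exact hsc
      obtain ⟨χ', hχ'⟩ := exists_induced hK hr le_top hχ
      refine ⟨⟨z, hzS⟩, χ', (hF'.2.2.2 _ _).2 ⟨le_top, χ, hχ, hχ'⟩, fun s => Subtype.ext (hzc s s.2), ?_⟩
      have hxp : (x : Ω) ∈ preimageAlong θ (Subgroup.zpowers (θ x)) :=
        mem_preimageAlong.2 ⟨x.2, Subgroup.mem_zpowers _⟩
      have hval : χ ⟨(x : Ω), hxp⟩ = z := by
        rw [hχe, ← hφx, ← hψe ⟨(x : Ω), Subgroup.mem_zpowers _⟩]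
        rfl
      exact (inducedAlong_apply hχ' ⟨(x : Ω), hxp⟩ x.2 (Subgroup.mem_zpowers (θ x)) (apply_mem hχ _)).trans
        (congrArg θ (Subtype.ext hval))
    have hab : ∀ a b : S ⧸ N, a * b = b * a := fun a b =>
      ih _ hcard rfl hp' F' hF's (fun y _ => by
        obtain ⟨x, rfl⟩ := QuotientGroup.mk'_surjective N y
        obtain ⟨z, φ', hφ', hz, hφ'x⟩ := hind x
        refine ⟨θ z, ⟨Subgroup.mem_top _, fun w _ => ?_⟩, φ', hφ', hφ'x⟩
        obtain ⟨s, rfl⟩ := QuotientGroup.mk'_surjective N w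
        rw [← map_mul, ← map_mul, hz]) a (Subgroup.mem_top _) b (Subgroup.mem_top _)
    intro a ha b hb
    obtain ⟨z, φ', hφ', hz, hφ'a⟩ := hind ⟨a, ha⟩
    obtain ⟨ψ', hψ', -, hψ'e⟩ := exists_extend_central hp' hF's hφ' (fun c w _ => hab w c) (fun c w _ => hab w _)
    obtain ⟨-, ω, hω, hωi⟩ := (hF'.2.2.2 _ _).1 hψ'
    have hall : ∀ s : S, (s : Ω) ∈ preimageAlong θ (⊤ : Subgroup (S ⧸ N)) := fun s =>
      mem_preimageAlong.2 ⟨s.2, Subgroup.mem_top _⟩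
    obtain ⟨α, hα, hαe⟩ := exists_restrict hω (show S ≤ preimageAlong θ ⊤ from fun s hs => hall ⟨s, hs⟩)
    have hαr : α.range = S := range_eq_of_mem hα (apply_mem hα) le_rfl
    have h1 : θ ⟨α ⟨a, ha⟩, apply_mem hα _⟩ = θ z := by
      rw [← hφ'a, ← hψ'e ⟨θ ⟨a, ha⟩, Subgroup.mem_zpowers _⟩ (Subgroup.mem_top _)]
      refine Eq.trans ?_ (inducedAlong_apply hωi ⟨a, hall ⟨a, ha⟩⟩ ha (Subgroup.mem_top _) (apply_mem hω _)).symm
      exact congrArg θ (Subtype.ext (hαe _))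
    have h2 : ((z⁻¹ * ⟨α ⟨a, ha⟩, apply_mem hα _⟩ : S) : Ω) ∈ E :=
      (hker _).1 (by rw [map_mul, map_inv, h1, inv_mul_cancel])
    have h3 : ∀ s : S, (s : Ω) * α ⟨a, ha⟩ = α ⟨a, ha⟩ * (s : Ω) := fun s => by
      have e1 : Commute (s : Ω) (z : Ω) := congrArg Subtype.val (hz s)
      have e2 : Commute (s : Ω) ((z⁻¹ * ⟨α ⟨a, ha⟩, apply_mem hα _⟩ : S) : Ω) := hcen s s.2 _ h2
      have e3 := e1.mul_right e2
      have e4 : (z : Ω) * ((z⁻¹ * ⟨α ⟨a, ha⟩, apply_mem hα _⟩ : S) : Ω) = α ⟨a, ha⟩ := by simp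
      rwa [e4] at e3
    have h4 := h3 ⟨α ⟨b, hb⟩, apply_mem hα _⟩
    rw [← map_mul, ← map_mul] at h4
    exact congrArg Subtype.val (F.injective_of_mem hα h4.symm)

end Cfsg.Agent.Lib.FusionP3.CentralConj
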